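import Cfsg.Agent.Lib.SEMain.Bender
import Cfsg.Agent.Lib.LocalEven.SylowAux
import Cfsg.Agent.Lib.Walter4.Struct
import Cfsg.Agent.Lib.Walter8.Quot
import Cfsg.Agent.Lib.AbelianTwo.Simple
import Cfsg.Agent.Lib.CTQuot.Base
import Cfsg.Agent.Lib.Perm.AutAlternating
import Cfsg.Agent.S0494
import Cfsg.Agent.S1226
import Cfsg.Agent.S1644
import Cfsg.Prelude.Def_EvenType
import Cfsg.Prelude.Def_Spor_J1
import Mathlib.GroupTheory.NoncommCoprod

/-!
Groups of even type with a strongly closed abelian 2-subgroup, given the classification of the simple groups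
with such a subgroup: a maximal strongly Z-embedded subgroup, or the first Janko group.
-/

set_option autoImplicit false
set_option linter.style.haveILetI false
set_option linter.unusedSectionVars false

namespace Cfsg.Agent.GoldEven

open Subgroup Matrix

universe u

variable {G : Type u} [Group G] [Finite G]

/-- A strongly embedded subgroup contains a Sylow 2-subgroup of the group. -/
theorem exists_sylow_le {H : Subgroup G} (hH : Cfsg.IsStronglyEmbedded H) :
    ∃ S : Sylow 2 G, (S : Subgroup G) ≤ H := by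
  haveI : Fact (Nat.Prime 2) := ⟨Nat.prime_two⟩
  obtain ⟨T⟩ : Nonempty (Sylow 2 ↥H) := inferInstance
  have hidx : ¬ 2 ∣ ((T : Subgroup ↥H).map H.subtype).index := by
    rw [index_map_subtype]
    intro h
    rcases Nat.prime_two.dvd_mul.1 h with h | h
    · exact T.not_dvd_index h
    · exact Nat.not_even_iff_odd.2 (SEMain.index_odd hH) (even_iff_two_dvd.2 h)
  exact ⟨(T.isPGroup'.map H.subtype).toSylow hidx, map_subtype_le _⟩

/-- A proper subgroup containing a strongly embedded subgroup is strongly embedded. -/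
theorem se_of_le {H M : Subgroup G} (hH : Cfsg.IsStronglyEmbedded H) (hHM : H ≤ M) (hM : M ≠ ⊤) :
    Cfsg.IsStronglyEmbedded M := by
  haveI : Fact (Nat.Prime 2) := ⟨Nat.prime_two⟩
  refine ⟨hM, even_iff_two_dvd.2 (hH.2.1.two_dvd.trans (card_dvd_of_le hHM)), fun g hg => ?_⟩
  rw [← Nat.not_even_iff_odd]
  intro hev
  obtain ⟨t, ht, ht2⟩ := Invol.exists_invol hev
  obtain ⟨htM, hty⟩ := mem_inf.1 ht
  obtain ⟨s, hsM, rfl⟩ := hty
  have hs2 : orderOf s = 2 := by rwa [MulEquiv.toMonoidHom_eq_coe, MonoidHom.coe_coe, MulEquiv.orderOf_eq] at ht2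
  obtain ⟨S, hSH⟩ := exists_sylow_le hH
  have hmap : ((S.subtype (hSH.trans hHM) : Sylow 2 ↥M) : Subgroup ↥M).map M.subtype ≤ H := by
    rw [Sylow.coe_subtype, subgroupOf_map_subtype]
    exact inf_le_left.trans hSH
  have hz : ∀ x : G, orderOf x = 2 → IsPGroup 2 ↥(zpowers x) := fun x hx =>
    IsPGroup.of_card (n := 1) (by rw [Nat.card_zpowers, hx, pow_one])
  obtain ⟨m, hm, hle⟩ := LESylow.exists_conj_le_of_le (zpowers_le.2 hsM) (hz s hs2) (S.subtype (hSH.trans hHM))
  obtain ⟨n, hn, hle'⟩ := LESylow.exists_conj_le_of_le (zpowers_le.2 htM) (hz _ ht2) (S.subtype (hSH.trans hHM))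
  have h1 : m * s * m⁻¹ ∈ H := hmap (hle ⟨s, mem_zpowers s, rfl⟩)
  have h2 : n * (g * s * g⁻¹) * n⁻¹ ∈ H := hmap (hle' ⟨_, mem_zpowers _, rfl⟩)
  have h3 : n * g * m⁻¹ ∈ H := Invol.se_mem_of_conj hH ((Invol.order_conj m s).trans hs2) h1 (by
    rw [show n * g * m⁻¹ * (m * s * m⁻¹) * (n * g * m⁻¹)⁻¹ = n * (g * s * g⁻¹) * n⁻¹ by group]
    exact h2)
  exact hg (by
    rw [show g = n⁻¹ * (n * g * m⁻¹) * m by group]
    exact mul_mem (mul_mem (inv_mem hn) (hHM h3)) hm)

/-- A strongly embedded subgroup gives a maximal subgroup that is strongly `Z`-embedded. -/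
theorem zEmbedded_of_se {H : Subgroup G} (hH : Cfsg.IsStronglyEmbedded H) :
    ∃ (M : Subgroup G) (z : G), IsCoatom M ∧ Cfsg.IsTwoCentralInvolution z ∧
      Cfsg.IsStronglyZEmbedded (conjugatesOf z) M := by
  haveI : Fact (Nat.Prime 2) := ⟨Nat.prime_two⟩
  obtain ⟨M, hM, hHM⟩ := (eq_top_or_exists_le_coatom H).resolve_left hH.1
  have hSE := se_of_le hH hHM hM.1
  obtain ⟨S, hSM⟩ := exists_sylow_le hSE
  haveI : Nontrivial ↥(S : Subgroup G) := by
    rw [nontrivial_iff_ne_bot]
    intro hb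
    have h2 : 2 ∣ Nat.card G := hH.2.1.two_dvd.trans (card_subgroup_dvd_card H)
    exact Sylow.ne_bot_of_dvd_card S h2 hb
  haveI := S.isPGroup'.center_nontrivial
  obtain ⟨c, hc⟩ := exists_prime_orderOf_dvd_card' (G := Subgroup.center ↥(S : Subgroup G)) 2 (by
    obtain ⟨k, hk, hcard⟩ := (S.isPGroup'.to_subgroup (Subgroup.center _)).nontrivial_iff_card.1 inferInstance
    rw [hcard]; exact dvd_pow_self 2 (by omega))
  set z : G := ((c : ↥(S : Subgroup G)) : G) with hzdef
  have hz2 : orderOf z = 2 := by rw [hzdef, Subgroup.orderOf_coe, Subgroup.orderOf_coe, hc]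
  have hzS : z ∈ (S : Subgroup G) := (c : ↥(S : Subgroup G)).2
  have hcen : ∀ x ∈ (S : Subgroup G), x * z = z * x := fun x hx =>
    congrArg Subtype.val (mem_center_iff.1 c.2 ⟨x, hx⟩)
  have hord : ∀ w ∈ conjugatesOf z, orderOf w = 2 := fun w hw => by
    obtain ⟨g, rfl⟩ := isConj_iff.1 (show IsConj z w from hw)
    exact (Invol.order_conj g z).trans hz2
  refine ⟨M, z, hM, ⟨hz2, S, hzS, hcen⟩, hM.1, ⟨z, mem_conjugatesOf_self, hSM hzS⟩,
    fun w hw hwM => Invol.se_centralizer_le hSE (hord w hw) hwM, ?_, ?_⟩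
  · refine ⟨S.subtype hSM, fun A g hA hA' => ?_⟩
    rw [Sylow.coe_subtype, subgroupOf_map_subtype, inf_eq_left.2 hSM] at hA hA'
    by_cases h1 : ∀ a ∈ A, a = 1
    · refine ⟨1, one_mem M, Set.image_congr fun a ha => ?_⟩
      rw [h1 a ha]; simp
    push Not at h1
    obtain ⟨a, ha, ha1⟩ := h1
    obtain ⟨k, hk⟩ := IsPGroup.iff_orderOf.1 S.isPGroup' ⟨a, hA ha⟩
    rw [Subgroup.orderOf_mk] at hk
    rcases k with _ | k
    · exact absurd (orderOf_eq_one_iff.1 (hk.trans (pow_zero 2))) ha1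
    have ht2 : orderOf (a ^ 2 ^ k) = 2 := by
      rw [orderOf_pow' a (pow_ne_zero k two_ne_zero), hk, Nat.gcd_eq_right ⟨2, pow_succ 2 k⟩, pow_succ,
        Nat.mul_div_cancel_left _ (Nat.two_pow_pos k)]
    refine ⟨g, Invol.se_mem_of_conj hSE ht2 (pow_mem (hSM (hA ha)) _) ?_, rfl⟩
    rw [← conj_pow]
    exact pow_mem (hSM (hA' ⟨a, ha, rfl⟩)) _
  · rintro H' hH' ⟨w, hw, hwin⟩ hle
    obtain ⟨hwH, hwM⟩ := mem_inf.1 (show w ∈ H' ⊓ M from hwin)
    have hw2 := hord w hw
    set K := Subgroup.closure (conjugatesOf z ∩ (H' : Set G)) with hK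
    have hwK : w ∈ K := subset_closure ⟨hw, hwH⟩
    have hnle : ¬ K ≤ M := fun hKM => hle fun h hh => by
      refine Invol.se_mem_of_conj hSE hw2 hwM (hKM (subset_closure ⟨?_, ?_⟩))
      · exact IsConj.trans (show IsConj z w from hw) (isConj_iff.2 ⟨h, rfl⟩)
      · exact mul_mem (mul_mem hh hwH) (inv_mem hh)
    refine ⟨hnle, (LEStrongEmb.iff_inter _).2 ⟨?_, ?_, ?_⟩⟩
    · rw [Ne, subgroupOf_eq_top]
      exact fun h => hnle (h.trans inf_le_right)
    · have h2 : orderOf (⟨⟨w, hwK⟩, mem_subgroupOf.2 (mem_inf.2 ⟨hwK, hwM⟩)⟩ : ↥((K ⊓ M).subgroupOf K)) = 2 := by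
        rw [Subgroup.orderOf_mk, Subgroup.orderOf_mk, hw2]
      exact h2 ▸ orderOf_dvd_natCard _
    · intro g hg hdvd
      obtain ⟨⟨t, ht⟩, ht2⟩ := exists_prime_orderOf_dvd_card' 2 hdvd
      obtain ⟨ht1, s, hs, rfl⟩ := mem_inf.1 ht
      have hs2 : orderOf (s : G) = 2 := by
        rw [Subgroup.orderOf_mk, MulEquiv.toMonoidHom_eq_coe, MonoidHom.coe_coe, MulEquiv.orderOf_eq] at ht2
        rw [Subgroup.orderOf_coe, ht2]
      exact hg (mem_subgroupOf.2 (mem_inf.2 ⟨g.2, Invol.se_mem_of_conj hSE hs2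
        (mem_inf.1 (mem_subgroupOf.1 hs)).2 (mem_inf.1 (mem_subgroupOf.1 ht1)).2⟩))

/-- In `SL(2, F)` of characteristic two an element commuting with an involution squares to one. -/
theorem sl_two_sq {F : Type} [Field F] [CharP F 2] (t g : SpecialLinearGroup (Fin 2) F) (ht : t * t = 1)
    (ht1 : t ≠ 1) (hc : g * t = t * g) : g * g = 1 := by
  have e1 : (t : Matrix (Fin 2) (Fin 2) F) * t = 1 := congrArg Subtype.val ht
  have e2 : (g : Matrix (Fin 2) (Fin 2) F) * t = t * g := congrArg Subtype.val hc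
  have d := g.2
  rw [det_fin_two] at d
  set a := (t : Matrix (Fin 2) (Fin 2) F) 0 0 with ha
  set b := (t : Matrix (Fin 2) (Fin 2) F) 0 1 with hb
  set c := (t : Matrix (Fin 2) (Fin 2) F) 1 0 with hc'
  set a' := (t : Matrix (Fin 2) (Fin 2) F) 1 1 with ha'
  set p := (g : Matrix (Fin 2) (Fin 2) F) 0 0 with hp
  set q := (g : Matrix (Fin 2) (Fin 2) F) 0 1 with hq
  set r := (g : Matrix (Fin 2) (Fin 2) F) 1 0 with hr
  set s := (g : Matrix (Fin 2) (Fin 2) F) 1 1 with hs
  have t00 : a * a + b * c = 1 := by have := congrFun (congrFun e1 0) 0; simpa [mul_apply, Fin.sum_univ_two] using this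
  have t11 : c * b + a' * a' = 1 := by have := congrFun (congrFun e1 1) 1; simpa [mul_apply, Fin.sum_univ_two] using this
  have c01 : p * b + q * a' = a * q + b * s := by
    have := congrFun (congrFun e2 0) 1; simpa [mul_apply, Fin.sum_univ_two] using this
  have c10 : r * a + s * c = c * p + a' * r := by
    have := congrFun (congrFun e2 1) 0; simpa [mul_apply, Fin.sum_univ_two] using this
  have h2 : (2 : F) = 0 := CharTwo.two_eq_zero
  have haa : a' = a := by
    have h : (a' - a) * (a' - a) = 0 := by linear_combination t11 - t00 + (a * a - a' * a) * h2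
    exact sub_eq_zero.1 (mul_self_eq_zero.1 h)
  have hbc : b ≠ 0 ∨ c ≠ 0 := by
    by_contra hh
    push Not at hh
    refine ht1 (Subtype.ext ?_)
    have h : (a - 1) * (a - 1) = 0 := by linear_combination t00 - c * hh.1 + (1 - a) * h2
    have h1 : a = 1 := sub_eq_zero.1 (mul_self_eq_zero.1 h)
    ext i j
    fin_cases i <;> fin_cases j
    · simpa [← ha] using h1
    · simpa [← hb] using hh.1
    · simpa [← hc'] using hh.2
    · simpa [← ha'] using haa.trans h1
  have hsp : s = p := by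
    rcases hbc with hne | hne
    · have h : b * (s - p) = 0 := by linear_combination -c01 + q * haa
      exact sub_eq_zero.1 ((mul_eq_zero.1 h).resolve_left hne)
    · have h : c * (s - p) = 0 := by linear_combination c10 + r * haa
      exact sub_eq_zero.1 ((mul_eq_zero.1 h).resolve_left hne)
  refine Subtype.ext ?_
  show (g : Matrix (Fin 2) (Fin 2) F) * g = 1
  ext i j
  fin_cases i <;> fin_cases j <;>
    simp only [mul_apply, Fin.sum_univ_two, Fin.zero_eta, Fin.mk_one, Fin.isValue, one_apply_eq,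
      one_apply_ne, ne_eq, zero_ne_one, one_ne_zero, not_false_eq_true, ← hp, ← hq, ← hr, ← hs]
  · linear_combination d - p * hsp + q * r * h2
  · linear_combination q * hsp + q * p * h2
  · linear_combination r * hsp + r * p * h2
  · linear_combination d + s * hsp + q * r * h2

theorem eight_dvd (h : Cfsg.PRankAtLeast 2 3 G) : 8 ∣ Nat.card G := by
  haveI : Fact (Nat.Prime 2) := ⟨Nat.prime_two⟩
  obtain ⟨A, -, hA, h8⟩ := h
  have hp : IsPGroup 2 ↥A := fun a => ⟨1, Subtype.ext (by simpa using hA a a.2)⟩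
  obtain ⟨k, hk⟩ := hp.exists_card_eq
  rw [hk] at h8
  have : 3 ≤ k := (Nat.pow_le_pow_iff_right (le_refl 2)).1 h8
  exact ((pow_dvd_pow 2 this).trans hk.symm.dvd).trans (card_subgroup_dvd_card A)

/-- `PSL₂(2ⁿ)` has a strongly embedded subgroup. -/
theorem se_of_psl_even [IsSimpleGroup G] (hG : ¬ IsMulCommutative G) (h3 : Cfsg.PRankAtLeast 2 3 G)
    {F : Type} [Field F] [Fintype F] [CharP F 2]
    (e : G ≃* ProjectiveSpecialLinearGroup (Fin 2) F) : ∃ H : Subgroup G, Cfsg.IsStronglyEmbedded H := by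
  haveI : Fact (Nat.Prime 2) := ⟨Nat.prime_two⟩
  obtain ⟨f⟩ := SEMain.psl_equiv_sl (F := F)
  set φ := e.trans f
  obtain ⟨T⟩ : Nonempty (Sylow 2 G) := inferInstance
  have hT8 : 8 ∣ Nat.card (T : Subgroup G) := by
    rw [T.card_eq_multiplicity]
    exact pow_dvd_pow 2 ((Nat.prime_two.pow_dvd_iff_le_factorization (k := 3) Nat.card_pos.ne').1 (eight_dvd h3))
  have hpos : 0 < Nat.card (T : Subgroup G) := Nat.card_pos
  have hT1 : (T : Subgroup G) ≠ ⊥ := fun hb => by rw [hb, card_bot] at hT8; norm_num at hT8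
  have hsq : ∀ t : G, orderOf t = 2 → ∀ c ∈ centralizer ({t} : Set G), c ^ 2 = 1 := by
    intro t ht c hc
    refine φ.injective ?_
    rw [map_pow, map_one, pow_two]
    refine sl_two_sq (φ t) (φ c) ?_ ?_ ?_
    · rw [← map_mul, show t * t = 1 by rw [← pow_two]; exact ht ▸ pow_orderOf_eq_one t, map_one]
    · rw [Ne, EmbeddingLike.map_eq_one_iff]
      intro h1; rw [h1, orderOf_one] at ht; omega
    · rw [← map_mul, ← map_mul, mem_centralizer_singleton_iff.1 hc]
  refine ⟨_, S1226.result T ?_ ?_ fun t ht => ⟨?_, hsq t ht⟩⟩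
  · intro hcyc
    obtain ⟨A, -, hA, h8⟩ := h3
    have hp : IsPGroup 2 ↥A := fun a => ⟨1, Subtype.ext (by simpa using hA a a.2)⟩
    obtain ⟨P, hP⟩ := hp.exists_le_sylow
    haveI := hcyc
    haveI : IsCyclic ↥(P : Subgroup G) := isCyclic_of_surjective (T.equiv P).toMonoidHom (T.equiv P).surjective
    haveI : IsCyclic ↥A := isCyclic_of_injective (inclusion hP) (inclusion_injective hP)
    have hexp : Monoid.exponent ↥A ∣ 2 :=
      Monoid.exponent_dvd_of_forall_pow_eq_one fun a => Subtype.ext (by simpa using hA a a.2)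
    rw [IsCyclic.exponent_eq_card] at hexp
    have := Nat.le_of_dvd two_pos hexp
    omega
  · intro hn
    haveI := hn
    rcases hn.eq_bot_or_eq_top with hb | ht
    · exact hT1 hb
    · haveI : Group.IsNilpotent ↥(T : Subgroup G) := T.isPGroup'.isNilpotent
      haveI : Group.IsSolvable ↥(⊤ : Subgroup G) := ht ▸ inferInstance
      haveI : Group.IsSolvable G := Group.isSolvable_of_isSolvable_injective
        (f := (topEquiv (G := G)).symm.toMonoidHom) topEquiv.symm.injective
      exact AbelianTwo.not_solvable hG inferInstance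
  · have h := hsq t ht
    refine ⟨⟨fun x y => Subtype.ext ?_⟩⟩
    have hinv : ∀ c ∈ centralizer ({t} : Set G), c⁻¹ = c := fun c hc =>
      inv_eq_of_mul_eq_one_right (by rw [← pow_two]; exact h c hc)
    calc (x : G) * y = ((x : G) * y)⁻¹ := (hinv _ (mul_mem x.2 y.2)).symm
      _ = y * x := by rw [_root_.mul_inv_rev, hinv _ x.2, hinv _ y.2]

/-- A group isomorphic to `PSL₂(q)`, `q ≡ 3, 5 (mod 8)`, has order not divisible by 8. -/
theorem not_eight_dvd_psl {F : Type} [Field F] [Fintype F]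
    (hq : Fintype.card F % 8 = 3 ∨ Fintype.card F % 8 = 5) :
    ¬ 8 ∣ Nat.card (ProjectiveSpecialLinearGroup (Fin 2) F) := by
  have hg := Dickson.gcd_mul_card_psl (K := F)
  rw [Nat.card_eq_fintype_card (α := F)] at hg
  have hgcd : Nat.gcd 2 (Fintype.card F - 1) = 2 := Nat.gcd_eq_left (by omega)
  rw [hgcd] at hg
  rintro ⟨m, hm⟩
  rw [hm] at hg
  obtain ⟨k, hk⟩ : ∃ k, Fintype.card F = 8 * k + 3 ∨ Fintype.card F = 8 * k + 5 :=
    ⟨Fintype.card F / 8, by omega⟩
  rcases hk with hk | hk <;> rw [hk] at hg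
  · have : (8 * k + 3) ^ 2 - 1 = 64 * (k * k) + 48 * k + 8 := by
      rw [Nat.sub_eq_iff_eq_add (Nat.one_le_pow _ _ (by omega))]; ring
    rw [this, show (8 * k + 3) * (64 * (k * k) + 48 * k + 8) =
      512 * (k * k * k) + 576 * (k * k) + 208 * k + 24 by ring] at hg
    omega
  · have : (8 * k + 5) ^ 2 - 1 = 64 * (k * k) + 80 * k + 24 := by
      rw [Nat.sub_eq_iff_eq_add (Nat.one_le_pow _ _ (by omega))]; ring
    rw [this, show (8 * k + 5) * (64 * (k * k) + 80 * k + 24) =
      512 * (k * k * k) + 960 * (k * k) + 592 * k + 120 by ring] at hg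
    omega

theorem quasisimple_of_simple {K : Type u} [Group K] [IsSimpleGroup K] (hK : ¬ IsMulCommutative K) :
    Cfsg.IsQuasisimple K := by
  have hZ : center K = ⊥ := (inferInstance : (center K).Normal).eq_bot_or_eq_top.resolve_right fun h => hK
    ⟨⟨fun a b => mem_center_iff.1 (h ▸ mem_top b) a⟩⟩
  refine ⟨Group.isPerfect_def.2 ((inferInstance : (commutator K).Normal).eq_bot_or_eq_top.resolve_left fun h => hK
    ⟨⟨fun a b => ?_⟩⟩), ?_⟩
  · exact commutatorElement_eq_one_iff_mul_comm.1 (mem_bot.1 (h ▸ commutator_mem_commutator (mem_top a) (mem_top b)))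
  · exact ((QuotientGroup.quotientMulEquivOfEq hZ).trans QuotientGroup.quotientBot).isSimpleGroup

/-- Only `q = 5` occurs for a group of Ree–Janko type and of even type. -/
theorem isoJ1_of_rjType [IsSimpleGroup G] (hE : Cfsg.IsOfEvenType G) (hRJ : Walter4.RJType G) :
    Cfsg.Spor.IsoJ1 G := by
  haveI : Fact (Nat.Prime 2) := ⟨Nat.prime_two⟩
  obtain ⟨-, S, h8, hL, -⟩ := hRJ
  have hSab : IsMulCommutative (S : Subgroup G) := ⟨⟨fun x y => Subtype.ext (h8.comm x.2 y.2)⟩⟩
  obtain ⟨a, haS, ha1⟩ := h8.exists_out (T := {(1 : G)}) (by simp)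
  rw [Set.mem_singleton_iff] at ha1
  have ha2 := h8.order_two haS ha1
  obtain ⟨L, F, iF, iF', φ, hodd, hq3, hLC, hN, hφ, -, hker, hcen⟩ := hL a haS ha1
  set C := Walter8.cen a with hC
  have hcore : ClosedAbelian.core C = ⊥ := hE.2.1 a ha2
  haveI hsimpF : IsSimpleGroup (ProjectiveSpecialLinearGroup (Fin 2) F) :=
    ProjectiveSpecialLinearGroup.rank_two_simple (by rw [Nat.card_eq_fintype_card]; omega)
  have hinj : Function.Injective φ := by
    rw [← MonoidHom.ker_eq_bot_iff, hker, hcore, bot_subgroupOf]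
  set eL : ↥L ≃* ProjectiveSpecialLinearGroup (Fin 2) F := MulEquiv.ofBijective φ ⟨hinj, hφ⟩
  have habL : AbelianTwo.AbTwo ↥L := Walter4.comm_sylow_sub S hSab L
  -- the component of `C(a)`
  set O := Cfsg.pPrimeCore 2 ↥C
  have hO : O = ⊥ := (map_eq_bot_iff_of_injective _ C.subtype_injective).1 hcore
  haveI : (L.subgroupOf C).Normal := normal_subgroupOf_iff_le_normalizer hLC |>.2 hN
  set π := QuotientGroup.mk' O
  have hπ : Function.Injective π := by rw [← MonoidHom.ker_eq_bot_iff, QuotientGroup.ker_mk', hO]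
  set K := (L.subgroupOf C).map π with hKdef
  haveI : K.Normal := Normal.map inferInstance π (QuotientGroup.mk'_surjective O)
  let eK : ↥K ≃* ProjectiveSpecialLinearGroup (Fin 2) F :=
    (((equivMapOfInjective _ π hπ).symm).trans (subgroupOfEquivOfLe hLC)).trans eL
  have hPnc : ¬ IsMulCommutative (ProjectiveSpecialLinearGroup (Fin 2) F) := by
    intro hc
    letI : CommGroup (ProjectiveSpecialLinearGroup (Fin 2) F) :=
      { (inferInstance : Group (ProjectiveSpecialLinearGroup (Fin 2) F)) with mul_comm := fun x y => hc.is_comm.comm x y }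
    have hp : (Nat.card (ProjectiveSpecialLinearGroup (Fin 2) F)).Prime := IsSimpleGroup.prime_card
    have hg := Dickson.gcd_mul_card_psl (K := F)
    rw [Nat.card_eq_fintype_card (α := F)] at hg
    rw [show Nat.gcd 2 (Fintype.card F - 1) = 2 from Nat.gcd_eq_left (by rw [Nat.odd_iff] at hodd; omega)] at hg
    have h8d : 8 ∣ Fintype.card F ^ 2 - 1 := by
      rw [Nat.odd_iff] at hodd
      obtain ⟨k, hk⟩ : ∃ k, Fintype.card F = 2 * k + 1 := ⟨Fintype.card F / 2, by omega⟩
      obtain ⟨j, hj⟩ := (Nat.even_mul_succ_self k).two_dvd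
      refine ⟨j, ?_⟩
      rw [hk, show (2 * k + 1) ^ 2 = 4 * (k * (k + 1)) + 1 by ring, hj]
      omega
    have h4 : 4 ∣ Nat.card (ProjectiveSpecialLinearGroup (Fin 2) F) := by
      obtain ⟨j, hj⟩ := h8d
      refine ⟨Fintype.card F * j, ?_⟩
      rw [hj] at hg
      linarith [show Fintype.card F * (8 * j) = 8 * (Fintype.card F * j) by ring]
    have h2 := (hp.eq_one_or_self_of_dvd 2 (Dvd.dvd.trans (by norm_num) h4)).resolve_left (by norm_num)
    rw [← h2] at h4
    norm_num at h4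
  haveI : IsSimpleGroup ↥K := eK.isSimpleGroup
  have hKnc : ¬ IsMulCommutative ↥K := fun hc => hPnc
    ⟨⟨fun x y => eK.symm.injective (by rw [map_mul, map_mul]; exact hc.is_comm.comm _ _)⟩⟩
  have hInC := hE.1 a ha2 K ⟨(inferInstance : K.Normal).isSubnormal, quasisimple_of_simple hKnc⟩
  have hZK : center ↥K = ⊥ := (inferInstance : (center ↥K).Normal).eq_bot_or_eq_top.resolve_right fun h => hKnc
    ⟨⟨fun x y => mem_center_iff.1 (h ▸ mem_top y) x⟩⟩
  have hCp : Cfsg.IsCpSimple 2 (ProjectiveSpecialLinearGroup (Fin 2) F) := CTQuot.isCpSimple_congr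
    (((QuotientGroup.quotientMulEquivOfEq hZK).trans QuotientGroup.quotientBot).trans eK) hInC.2.2.1
  obtain ⟨E, iE, iE', hEc, ⟨ψ⟩⟩ := AbelianTwo.psl_cases hPnc (habL.congr eL.symm) hCp
  have hcardF : Nat.card ↥L = 60 := by
    have hgF := Dickson.gcd_mul_card_psl (K := F)
    rw [Nat.card_eq_fintype_card (α := F),
      show Nat.gcd 2 (Fintype.card F - 1) = 2 from Nat.gcd_eq_left (by rw [Nat.odd_iff] at hodd; omega),
      ← Nat.card_congr eL.toEquiv] at hgF
    have hgE := Dickson.gcd_mul_card_psl (K := E)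
    rw [Nat.card_eq_fintype_card (α := E), ← Nat.card_congr ψ.toEquiv, ← Nat.card_congr eL.toEquiv] at hgE
    rcases hEc with h5 | ⟨m, hm, hm2⟩
    · rw [h5] at hgE; norm_num at hgE; omega
    · rw [hm2] at hgE
      have hgcd : Nat.gcd 2 (2 ^ m - 1) = 1 := by
        rw [← Nat.coprime_iff_gcd_eq_one, Nat.coprime_two_left, Nat.odd_iff]
        have := Nat.one_le_two_pow (n := m)
        have h2m : 2 ∣ 2 ^ m := dvd_pow_self 2 (by omega)
        omega
      rw [hgcd, one_mul] at hgE
      have hdvd : 2 ^ m ∣ Nat.card G := (hgE ▸ dvd_mul_right _ _).trans (card_subgroup_dvd_card L)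
      have hm3 : m ≤ 3 := by
        by_contra hlt
        exact h8.sixteen ((pow_dvd_pow 2 (show 4 ≤ m by omega)).trans hdvd)
      interval_cases m
      · norm_num at hgE; exact hgE
      · exfalso
        norm_num at hgE
        rw [hgE] at hgF
        by_cases hlt : Fintype.card F ≤ 10
        · interval_cases (Fintype.card F) <;> norm_num at hgF
        · have h1 : 11 ^ 2 ≤ Fintype.card F ^ 2 := Nat.pow_le_pow_left (by omega) 2
          have := Nat.mul_le_mul (show 11 ≤ Fintype.card F by omega)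
            (show 120 ≤ Fintype.card F ^ 2 - 1 by omega)
          omega
  haveI : IsSimpleGroup ↥L := eL.isSimpleGroup
  obtain ⟨e5⟩ := S0494.result (G := ↥L) hcardF
  -- the kernel of the action of `C(a)` on `L`
  let f : ↥C →* MulAut ↥(alternatingGroup (Fin 5)) :=
    (MulAut.congr e5).toMonoidHom.comp (L.normalizerMonoidHom.comp (Subgroup.inclusion hN))
  have haC : a ∈ C := mem_centralizer_singleton_iff.2 rfl
  have hfk : f.ker = (zpowers a).subgroupOf C := by
    ext x
    rw [MonoidHom.mem_ker, mem_subgroupOf]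
    show (MulAut.congr e5) (L.normalizerMonoidHom (Subgroup.inclusion hN x)) = 1 ↔ _
    rw [EmbeddingLike.map_eq_one_iff, ← MonoidHom.mem_ker, normalizerMonoidHom_ker, mem_subgroupOf,
      coe_inclusion, mem_centralizer_iff]
    constructor
    · intro h
      have := hcen x x.2 fun l hl => by rw [← h l hl]; simp
      rwa [hcore, bot_sup_eq] at this
    · rintro hx l hl
      obtain ⟨i, hi⟩ := mem_zpowers_iff.1 hx
      rw [← hi]
      exact ((show Commute l a from mem_centralizer_singleton_iff.1 (hLC hl)).zpow_right i).eq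
  have hdisj : Disjoint (zpowers a) L := by
    rw [disjoint_iff, eq_bot_iff]
    rintro x ⟨hx, hxL⟩
    obtain ⟨i, rfl⟩ := mem_zpowers_iff.1 hx
    have hmem : (⟨a ^ i, hxL⟩ : ↥L) ∈ center ↥L := mem_center_iff.2 fun l => Subtype.ext
      ((show Commute (l : G) a from mem_centralizer_singleton_iff.1 (hLC l.2)).zpow_right i).eq
    have hLnc : ¬ IsMulCommutative ↥L := fun hc => hPnc
      ⟨⟨fun x y => eL.symm.injective (by rw [map_mul, map_mul]; exact hc.is_comm.comm _ _)⟩⟩
    rw [(inferInstance : (center ↥L).Normal).eq_bot_or_eq_top.resolve_right fun h => hLnc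
      ⟨⟨fun x y => mem_center_iff.1 (h ▸ mem_top y) x⟩⟩, mem_bot] at hmem
    exact mem_bot.2 (congrArg Subtype.val hmem)
  have hcomm : ∀ (x : ↥(zpowers a)) (l : ↥L), Commute ((zpowers a).subtype x) (L.subtype l) := fun x l => by
    obtain ⟨i, hi⟩ := mem_zpowers_iff.1 x.2
    rw [Subgroup.coe_subtype, ← hi]
    exact ((show Commute (l : G) a from mem_centralizer_singleton_iff.1 (hLC l.2)).zpow_right i).symm
  set P := MonoidHom.noncommCoprod (zpowers a).subtype L.subtype hcomm with hP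
  have hPinj : Function.Injective P := by
    rw [hP, MonoidHom.noncommCoprod_injective]
    exact ⟨subtype_injective _, subtype_injective _, by rwa [range_subtype, range_subtype]⟩
  have hPC : ∀ x, P x ∈ C := fun x => by
    rw [hP, MonoidHom.noncommCoprod_apply]
    exact mul_mem (zpowers_le.2 haC x.1.2) (hLC x.2.2)
  set Q := P.codRestrict C hPC
  have hQinj : Function.Injective Q := fun x y h => hPinj (congrArg Subtype.val h)
  have hdom : Nat.card (↥(zpowers a) × ↥L) = 120 := by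
    rw [Nat.card_prod, Nat.card_zpowers, ha2, hcardF]
  have h120 : 120 ∣ Nat.card ↥C := hdom ▸ card_dvd_of_injective Q hQinj
  have h240 : Nat.card ↥C ∣ 240 := by
    rw [← card_mul_index f.ker, hfk, Nat.card_congr (subgroupOfEquivOfLe (zpowers_le.2 haC)).toEquiv,
      Nat.card_zpowers, ha2, ← hfk, index_ker]
    have hA : Nat.card (MulAut ↥(alternatingGroup (Fin 5))) = 120 := by
      rw [← Nat.card_eq_of_bijective _ (AutAlt.bijective_conjNormal (n := 5) (by norm_num) (by norm_num)),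
        Nat.card_perm, Nat.card_fin]
      rfl
    exact (Nat.mul_dvd_mul_left 2 (hA ▸ card_subgroup_dvd_card f.range) : _ ∣ 2 * 120)
  have hCcard : Nat.card ↥C = 120 := by
    have hle := Nat.le_of_dvd (by norm_num) h240
    obtain ⟨j, hj⟩ := h120
    have hpos : 0 < Nat.card ↥C := Nat.card_pos
    have hne : Nat.card ↥C ≠ 240 := fun h => h8.sixteen
      ((show 16 ∣ Nat.card ↥C by rw [h]; norm_num).trans (card_subgroup_dvd_card C))
    omega
  let eQ : ↥(zpowers a) × ↥L ≃* ↥C :=
    MulEquiv.ofBijective Q ((Nat.bijective_iff_injective_and_card Q).2 ⟨hQinj, by rw [hdom, hCcard]⟩)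
  let e2 : ↥(zpowers a) ≃* Multiplicative (ZMod 2) := mulEquivOfPrimeCardEq (p := 2)
    (by rw [Nat.card_zpowers, ha2]) (by rw [Nat.card_congr Multiplicative.toAdd, Nat.card_zmod])
  exact S1644.result S hSab h8.card a ha2 (eQ.symm.trans (MulEquiv.prodCongr e2 e5))

/-- The simple groups with a strongly closed abelian 2-subgroup, as a hypothesis. -/
def ClosedStmt : Prop :=
  ∀ (G : Type u) [Group G] [Finite G] [IsSimpleGroup G] (S : Sylow 2 G) (A : Subgroup G), A ≠ ⊥ →
    IsMulCommutative A → Cfsg.IsStronglyClosed A (S : Subgroup G) →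
      IsMulCommutative (S : Subgroup G) ∨ ∃ H : Subgroup G, Cfsg.IsStronglyEmbedded H

/-- The simple groups with abelian Sylow 2-subgroups, as a hypothesis. -/
def AbelianStmt : Prop :=
  ∀ (G : Type u) [Group G] [Finite G], IsSimpleGroup G → ¬ IsMulCommutative G →
    (∀ P : Sylow 2 G, IsMulCommutative (P : Subgroup G)) → Walter4.Good G

theorem S1794_of [IsSimpleGroup G] (hGS : ClosedStmt.{u}) (hW : AbelianStmt.{u})
    (hG : ¬ IsMulCommutative G) (hE : Cfsg.IsOfEvenType G) (S : Sylow 2 G) (A : Subgroup G)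
    (hA : A ≠ ⊥) (hAc : IsMulCommutative A) (hAS : Cfsg.IsStronglyClosed A S) :
    (∃ (M : Subgroup G) (z : G), IsCoatom M ∧ Cfsg.IsTwoCentralInvolution z ∧
      Cfsg.IsStronglyZEmbedded (conjugatesOf z) M) ∨ Cfsg.Spor.IsoJ1 G := by
  haveI : Fact (Nat.Prime 2) := ⟨Nat.prime_two⟩
  rcases hGS G S A hA hAc hAS with hS | ⟨H, hH⟩
  · have hab : ∀ P : Sylow 2 G, IsMulCommutative (P : Subgroup G) := fun P => by
      haveI := hS
      exact ⟨⟨fun x y => (S.equiv P).symm.injective (by rw [map_mul, map_mul]; exact mul_comm' _ _)⟩⟩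
    rcases hW G inferInstance hG hab with ⟨F, iF, iF', hF, ⟨e⟩⟩ | hRJ
    · rcases hF with ⟨hq, -⟩ | ⟨n, hn, hn2⟩
      · exact absurd ((eight_dvd hE.2.2).trans (Nat.card_congr e.toEquiv).dvd) (not_eight_dvd_psl hq)
      · have h20 : (2 : F) = 0 := by
          have h := FiniteField.cast_card_eq_zero F
          rw [hn2, Nat.cast_pow, Nat.cast_ofNat] at h
          exact pow_eq_zero_iff (by omega : n ≠ 0) |>.1 h
        haveI : CharP F 2 := CharTwo.of_one_ne_zero_of_two_eq_zero one_ne_zero h20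
        obtain ⟨H, hH⟩ := se_of_psl_even hG hE.2.2 e
        exact Or.inl (zEmbedded_of_se hH)
    · exact Or.inr (isoJ1_of_rjType hE hRJ)
  · exact Or.inl (zEmbedded_of_se hH)

end Cfsg.Agent.GoldEven
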